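import Groth.Agent.Coherent.K290.ExtLF
import Groth.Agent.CurvSt.K903.ExtAdjNat

/-!
# `Ext^n(E, M) = H^n(X, M ⊗ E^∨)` naturally in `M`, `E` finite locally free
-/

set_option autoImplicit false
universe u w

open CategoryTheory CategoryTheory.Limits AlgebraicGeometry MonoidalCategory

namespace K785.ExtDual

open scoped Groth.Agent.Dcoh.MonCat
open Groth.Agent

variable {X : Scheme.{u}}

/-- The dual of a dualizable module. -/
noncomputable def dualIso (E E' : X.Modules) [ExactPairing E' E] [DCoh.HasSheafHom E] :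
    (DCoh.sheafHom E).obj (Coh.structureModule X) ≅ E' :=
  (Adjunction.rightAdjointUniq (DCoh.sheafHomAdj E) (tensorLeftAdjunction E' E)).app (𝟙_ X.Modules) ≪≫ ρ_ E'

theorem comp_sq {C : Type*} [Category C] [Abelian C] [HasExt.{w} C] {A B₁ B₂ B₂' B₃ : C} {n : ℕ}
    (x : Abelian.Ext.{w} A B₁ n) (f : B₁ ⟶ B₂) (g : B₂ ⟶ B₃) (f' : B₁ ⟶ B₂') (g' : B₂' ⟶ B₃) (h : f ≫ g = f' ≫ g') :
    (x.comp (Abelian.Ext.mk₀ f) (add_zero n)).comp (Abelian.Ext.mk₀ g) (add_zero n) =
      (x.comp (Abelian.Ext.mk₀ f') (add_zero n)).comp (Abelian.Ext.mk₀ g') (add_zero n) := by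
  rw [Abelian.Ext.comp_assoc_of_third_deg_zero, Abelian.Ext.comp_assoc_of_third_deg_zero,
    Abelian.Ext.mk₀_comp_mk₀, Abelian.Ext.mk₀_comp_mk₀, h]

theorem exists_equiv [HasExt.{w} X.Modules] (E : X.Modules) (hE : FlatMod.IsFinLocFree E) [DCoh.HasSheafHom E]
    (n : ℕ) :
    ∃ θ : ∀ M : X.Modules, Abelian.Ext.{w} E M n ≃+
        Coh.HH X ((DCoh.tensorBi.obj M).obj ((DCoh.sheafHom E).obj (Coh.structureModule X))) n,
      ∀ (M M' : X.Modules) (f : M ⟶ M') (x : Abelian.Ext.{w} E M n),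
        θ M' (x.comp (Abelian.Ext.mk₀ f) (add_zero n)) =
          Sheaf.H.map ((SheafOfModules.toSheaf.{u} X.ringCatSheaf).map
            ((DCoh.tensorBi.map f).app ((DCoh.sheafHom E).obj (Coh.structureModule X)))) n (θ M x) := by
  obtain ⟨E', -, ⟨h1⟩, ⟨h2⟩⟩ := K53.FlfAdj.exists_pairing_symm hE
  have := Groth.Agent.S0485.result _ X.ringCatSheaf
  have i0 : EnoughInjectives X.Modules := this
  have p1 := K53.FlfAdj.pfl E' E
  have p2 := K53.FlfAdj.pfl E E'
  have p3 := K53.FlfAdj.pfc E E'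
  have p4 := K53.FlfAdj.pfc E' E
  let adj := K53.FlfAdj.adjR E E'
  have a1 : (tensorRight E).Additive := adj.left_adjoint_additive
  have a2 : (tensorRight E').Additive := (K53.FlfAdj.adjR E' E).left_adjoint_additive
  let V : X.Modules := (DCoh.sheafHom E).obj (Coh.structureModule X)
  let v : V ≅ E' := dualIso E E'
  let l : CohB1.tensorMod (Coh.structureModule X) E ≅ E := (λ_ E : 𝟙_ X.Modules ⊗ E ≅ E)
  let φe : ∀ M : X.Modules, Abelian.Ext.{w} (Coh.structureModule X) (CohB1.tensorMod M E') n ≃+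
      Abelian.Ext.{w} (CohB1.tensorMod (Coh.structureModule X) E) M n := fun M =>
    AddEquiv.ofBijective (Ega3B.ExtAdj.φ adj (Coh.structureModule X) M n)
      (K903.ExtAdjNat.φ_bijective_of_exact adj (Coh.structureModule X) M n)
  let vM : ∀ M : X.Modules, CohB1.tensorMod M E' ≅ (DCoh.tensorBi.obj M).obj V := fun M =>
    (DCoh.tensorBi.obj M).mapIso v.symm
  let θ : ∀ M : X.Modules, Abelian.Ext.{w} E M n ≃+ Coh.HH X ((DCoh.tensorBi.obj M).obj V) n := fun M =>
    (K290.ExtLF.extLeft l.symm M n).trans ((φe M).symm.trans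
      ((K290.ExtLF.extRight (Coh.structureModule X) (vM M) n).trans
        (CurvesC.ExtUnit.extHH ((DCoh.tensorBi.obj M).obj V) n)))
  refine ⟨θ, fun M M' f x => ?_⟩
  have e1 : ∀ (M : X.Modules) (x : Abelian.Ext.{w} E M n), θ M x =
      CurvesC.ExtUnit.extHH ((DCoh.tensorBi.obj M).obj V) n
        (((φe M).symm ((Abelian.Ext.mk₀ l.hom).comp x (zero_add n))).comp (Abelian.Ext.mk₀ (vM M).hom) (add_zero n)) :=
    fun M x => rfl
  have e2 : (φe M').symm ((Abelian.Ext.mk₀ l.hom).comp (x.comp (Abelian.Ext.mk₀ f) (add_zero n)) (zero_add n)) =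
      ((φe M).symm ((Abelian.Ext.mk₀ l.hom).comp x (zero_add n))).comp
        (Abelian.Ext.mk₀ ((tensorRight E').map f)) (add_zero n) := by
    apply (φe M').injective
    rw [AddEquiv.apply_symm_apply]
    refine Eq.trans ?_ (Ega3B.ExtAdj.φ_natural adj (Coh.structureModule X) f n
      ((φe M).symm ((Abelian.Ext.mk₀ l.hom).comp x (zero_add n)))).symm
    have e3 : Ega3B.ExtAdj.φ adj (Coh.structureModule X) M n
        ((φe M).symm ((Abelian.Ext.mk₀ l.hom).comp x (zero_add n))) =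
        (Abelian.Ext.mk₀ l.hom).comp x (zero_add n) := (φe M).apply_symm_apply _
    exact (Abelian.Ext.comp_assoc_of_third_deg_zero _ _ _ _).symm.trans
      (congrArg (fun t => Abelian.Ext.comp t (Abelian.Ext.mk₀ f) (add_zero n)) e3.symm)
  rw [e1, e1, e2]
  refine Eq.trans ?_ (CurvesC.ExtUnit.extHH_comp_mk₀ n _ ((DCoh.tensorBi.map f).app V))
  refine congrArg (CurvesC.ExtUnit.extHH ((DCoh.tensorBi.obj M').obj V) n) ?_
  exact comp_sq _ ((tensorRight E').map f) (vM M').hom (vM M).hom ((DCoh.tensorBi.map f).app V)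
    ((DCoh.tensorBi.map f).naturality v.inv).symm

end K785.ExtDual
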