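import Groth.Agent.AbVar.K785.Core
import Groth.Agent.AbVar.K785.ExtDual

/-!
# Vanishing of the cohomology of `(lim Ω) ⊗ E^∨` from a faithful transform

`Φ : D(X) ⥤ D(Y)` a functor, `Ω` a tower of modules on `X` with `Φ(Ω_e)` coherent in degrees `[0, g]`, the towers
`H^j(Φ(Ω_e))` Mittag-Leffler with images of the limits supported in codimension at least `j`, `E` finite locally free on
`X` with `Φ(E[-n]) = N[-(g+n)]`, `N` finite locally free on `Y`, `n > 0`. If `H^n(X, (lim Ω) ⊗ E^∨)` embeds in the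
product of the `H^n(X, Ω_e ⊗ E^∨)`, it is zero.
-/

set_option autoImplicit false
universe u

open CategoryTheory CategoryTheory.Limits AlgebraicGeometry Opposite TopologicalSpace DerivedCategory
attribute [local instance] HasDerivedCategory.standard

namespace K785.Assemble

open Groth.Agent K785.ProZero

variable {X Y : Scheme.{u}}

/-- The map induced on `H^n(X, - ⊗ V)`. -/
noncomputable def hmap {M M' : X.Modules} (V : X.Modules) (f : M ⟶ M') (n : ℕ) :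
    Coh.HH X ((DCoh.tensorBi.obj M).obj V) n →+ Coh.HH X ((DCoh.tensorBi.obj M').obj V) n :=
  Sheaf.H.map ((SheafOfModules.toSheaf.{u} X.ringCatSheaf).map ((DCoh.tensorBi.map f).app V)) n

theorem hmap_comp {M M' M'' : X.Modules} (V : X.Modules) (f : M ⟶ M') (f' : M' ⟶ M'') (n : ℕ)
    (x : Coh.HH X ((DCoh.tensorBi.obj M).obj V) n) :
    hmap V (f ≫ f') n x = hmap V f' n (hmap V f n x) := by
  have h0 : (DCoh.tensorBi.map (f ≫ f')).app V = (DCoh.tensorBi.map f).app V ≫ (DCoh.tensorBi.map f').app V := by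
    rw [Functor.map_comp, NatTrans.comp_app]
  have h1 : (SheafOfModules.toSheaf.{u} X.ringCatSheaf).map ((DCoh.tensorBi.map (f ≫ f')).app V) =
      (SheafOfModules.toSheaf.{u} X.ringCatSheaf).map ((DCoh.tensorBi.map f).app V) ≫
        (SheafOfModules.toSheaf.{u} X.ringCatSheaf).map ((DCoh.tensorBi.map f').app V) :=
    (congrArg _ h0).trans ((SheafOfModules.toSheaf.{u} X.ringCatSheaf).map_comp _ _)
  exact (congrArg (fun t => Sheaf.H.map t n x) h1).trans (Sheaf.H.map_comp_apply _ _ x)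

/-- **Vanishing.** -/
theorem main [NoetherianSpace Y] (Φ : DCoh.D X ⥤ DCoh.D Y) (Ω : ℕᵒᵖ ⥤ X.Modules) (g : ℕ)
    (hg : topologicalKrullDim Y ≤ g)
    (hK : ∀ e : ℕ, (Φ.obj (DCoh.inD X (Ω.obj (op e)))).IsGE 0 ∧ (Φ.obj (DCoh.inD X (Ω.obj (op e)))).IsLE (g : ℤ) ∧
      ∀ j : ℤ, Coh.IsCoh (DCoh.HD (Φ.obj (DCoh.inD X (Ω.obj (op e)))) j))
    (hML : ∀ i : ℤ, K415.TowerSheaf.IsML
      (Ω ⋙ singleFunctor X.Modules 0 ⋙ Φ ⋙ homologyFunctor Y.Modules i))
    (hcodim : ∀ i : ℕ, i ≤ g → ∃ e₀ : ℕ, ∀ e : ℕ, e₀ ≤ e →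
      ∀ y ∈ CohB1.support (image (limit.π
          (Ω ⋙ singleFunctor X.Modules 0 ⋙ Φ ⋙ homologyFunctor Y.Modules (i : ℤ)) (op e))),
        (i : WithBot ℕ∞) ≤ ringKrullDim (Y.presheaf.stalk y))
    (E : X.Modules) (hE : FlatMod.IsFinLocFree E) [DCoh.HasSheafHom E] (N : Y.Modules) (hN : FlatMod.IsFinLocFree N)
    (n : ℕ) (hn : 0 < n)
    (a : Nonempty (Φ.obj ((DCoh.inD X E)⟦-(n : ℤ)⟧) ≅ (DCoh.inD Y N)⟦-((g : ℤ) + n)⟧))
    (hfaith : ∀ (e : ℕ) (f : (DCoh.inD X E)⟦-(n : ℤ)⟧ ⟶ DCoh.inD X (Ω.obj (op e))), Φ.map f = 0 → f = 0)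
    (hlim : ∀ x : Coh.HH X ((DCoh.tensorBi.obj (limit Ω)).obj ((DCoh.sheafHom E).obj (Coh.structureModule X))) n,
      (∀ e : ℕ, hmap ((DCoh.sheafHom E).obj (Coh.structureModule X)) (limit.π Ω (op e)) n x = 0) → x = 0) :
    Subsingleton (Coh.HH X (CohB1.tensorMod (limit Ω) ((DCoh.sheafHom E).obj (Coh.structureModule X))) n) := by
  have hX : EnoughInjectives X.Modules := Groth.Agent.S0485.result _ X.ringCatSheaf
  have hE0 : HasExt.{u} X.Modules := hasExt_of_enoughInjectives _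
  obtain ⟨a⟩ := a
  have hpz : PZ ((DCoh.inD Y N)⟦-((g : ℤ) + n)⟧) (Ω ⋙ singleFunctor X.Modules 0 ⋙ Φ) :=
    Core.pz (Ω ⋙ singleFunctor X.Modules 0 ⋙ Φ) g hg hK hML hcodim N hN ((g : ℤ) + n) (by lia)
  obtain ⟨θ, hθ⟩ := ExtDual.exists_equiv.{u, u} E hE n
  let V : X.Modules := (DCoh.sheafHom E).obj (Coh.structureModule X)
  have h1 : ∀ x : Coh.HH X ((DCoh.tensorBi.obj (limit Ω)).obj V) n, x = 0 := by
    intro x
    refine hlim x fun e => ?_
    obtain ⟨d, h, hd⟩ := Core.ext_comp_eq_zero Φ Ω E n hfaith a hpz e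
    have h2 : ∀ y : Coh.HH X ((DCoh.tensorBi.obj (Ω.obj (op d))).obj V) n,
        hmap V (Ω.map (homOfLE h).op) n y = 0 := by
      intro y
      obtain ⟨z, rfl⟩ := (θ (Ω.obj (op d))).surjective y
      have h3 := hθ _ _ (Ω.map (homOfLE h).op) z
      rw [hd z, map_zero] at h3
      exact h3.symm
    have h4 : limit.π Ω (op e) = limit.π Ω (op d) ≫ Ω.map (homOfLE h).op := (limit.w Ω (homOfLE h).op).symm
    rw [h4, hmap_comp]
    exact h2 _
  exact ⟨fun x y => (h1 x).trans (h1 y).symm⟩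

end K785.Assemble
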