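import Groth.Agent.AbVar.K785.GoodSupp
import Groth.Agent.Coh.K415.TowerTensor
import Groth.Agent.FormalA.Support

/-!
# Eventually zero transition maps from supports of images of transforms

`Φ : D(X) ⥤ D(Y)` a functor, `Ω` a tower of modules on `X`. Suppose that the objects `Φ(Ω_e)` are coherent in degrees
`[0, g]`, that the towers `H^j(Φ(Ω_e))` are Mittag-Leffler and the images of their limits have support of
codimension at least `j`. Then morphisms from `N[-m]`, `N` finite locally free and `m > g`, into the tower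
`Φ(Ω)` are eventually zero.
-/

set_option autoImplicit false
universe u

open CategoryTheory CategoryTheory.Limits AlgebraicGeometry Opposite TopologicalSpace DerivedCategory
attribute [local instance] HasDerivedCategory.standard

namespace K785.Core

open Groth.Agent K785.ProZero

variable {X : Scheme.{u}}

/-- The image of a transition map for large index is the image of the limit. -/
theorem exists_image_iso (G : ℕᵒᵖ ⥤ X.Modules) (hG : ∀ n : ℕ, Coh.IsCoh (G.obj (op n)))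
    (hML : K415.TowerSheaf.IsML G) (e : ℕ) :
    ∃ (d : ℕ) (h : e ≤ d), Nonempty (image (G.map (homOfLE h).op) ≅ image (limit.π G (op e))) ∧
      Coh.IsCoh (image (G.map (homOfLE h).op)) := by
  have hF : ∀ n : ℕ, Coh.IsQCoh (G.obj (op n)) := fun n ↦ (hG n).1
  obtain ⟨m, h, hlift⟩ := K415.TowerSheaf.exists_limit_lift G hF hML e
  let t := K415.TowerSheaf.trL G h
  let p := factorThruImage t
  let i := image.ι t
  have hpi : p ≫ i = t := image.fac t
  have hI : Coh.IsCoh (image t) :=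
    Groth.Agent.FormalB.FormalLoc.isCoh_of_epi_mono p i (hG m) (hF e)
  let q : limit G ⟶ image t := limit.π G (op m) ≫ p
  have hq : q ≫ i = limit.π G (op e) := by
    rw [Category.assoc, hpi]
    exact limit.w G (homOfLE h).op
  have hqe : Epi q := by
    refine Groth.Agent.FormalB.SysSect.epi_of_affine q fun U hU b ↦ ?_
    obtain ⟨a, rfl⟩ := Groth.Agent.FormalB.FormalLoc.app_surjective_of_epi p (hF m) hI.1 hU b
    obtain ⟨y, hy⟩ := hlift U hU a
    refine ⟨y, ?_⟩
    apply Groth.Agent.PerfB.ModExact.app_injective_of_mono i U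
    have h1 : i.app U (q.app U y) = (limit.π G (op e)).app U y := congr(($hq).app U y)
    have h2 : i.app U (p.app U a) = t.app U a := congr(($hpi).app U a)
    rw [h1, h2, hy]
  have hqs : StrongEpi q := strongEpi_of_epi q
  exact ⟨m, h, ⟨image.isoStrongEpiMono q i hq⟩, hI⟩

/-- The image of a composite is a quotient of the image of the first map. -/
theorem exists_epi_image {C : Type*} [Category C] [Abelian C] {A B D : C} (f : A ⟶ B) (g : B ⟶ D) :
    ∃ q : image f ⟶ image (f ≫ g), Epi q := by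
  let h : image f ⟶ D := image.ι f ≫ g
  have h1 : StrongEpi (factorThruImage f ≫ factorThruImage h) := strongEpi_of_epi _
  let e : image h ≅ image (f ≫ g) := image.isoStrongEpiMono (f := f ≫ g) (factorThruImage f ≫ factorThruImage h)
    (image.ι h) (by rw [Category.assoc, image.fac, image.fac_assoc])
  exact ⟨factorThruImage h ≫ e.hom, inferInstance⟩

variable {Y : Scheme.{u}}

/-- **Eventually zero transition maps.** -/
theorem pz [NoetherianSpace Y] (K : ℕᵒᵖ ⥤ DCoh.D Y) (g : ℕ) (hg : topologicalKrullDim Y ≤ g)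
    (hK : ∀ e : ℕ, (K.obj (op e)).IsGE 0 ∧ (K.obj (op e)).IsLE (g : ℤ) ∧
      ∀ j : ℤ, Coh.IsCoh (DCoh.HD (K.obj (op e)) j))
    (hML : ∀ i : ℤ, K415.TowerSheaf.IsML (K ⋙ homologyFunctor Y.Modules i))
    (hcodim : ∀ i : ℕ, i ≤ g → ∃ e₀ : ℕ, ∀ e : ℕ, e₀ ≤ e →
      ∀ y ∈ CohB1.support (image (limit.π (K ⋙ homologyFunctor Y.Modules (i : ℤ)) (op e))),
        (i : WithBot ℕ∞) ≤ ringKrullDim (Y.presheaf.stalk y))
    (N : Y.Modules) (hN : FlatMod.IsFinLocFree N) (m : ℤ) (hm : g < m) :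
    PZ ((DCoh.inD Y N)⟦-m⟧) K := by
  refine pz_of_image _ (g + 1) K (fun e => (hK e).1) (fun e => ?_) fun j e => ?_
  · have := (hK e).2.1
    exact TStructure.t.isLE_of_le _ (g : ℤ) _ (by push_cast; lia)
  by_cases hj : 0 ≤ j ∧ j ≤ g
  · obtain ⟨i, rfl⟩ : ∃ i : ℕ, j = (i : ℤ) := ⟨j.toNat, by lia⟩
    have hi : i ≤ g := by exact_mod_cast hj.2
    obtain ⟨e₀, he₀⟩ := hcodim i hi
    obtain ⟨d, hd, ⟨a⟩, hcoh⟩ := exists_image_iso (K ⋙ homologyFunctor Y.Modules (i : ℤ))
      (fun n => (hK n).2.2 i) (hML i) (max e e₀)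
    have hle : e ≤ max e e₀ := le_max_left _ _
    refine ⟨d, hle.trans hd, ?_⟩
    let f := (homologyFunctor Y.Modules (i : ℤ)).map (tr K hd)
    let f' := (homologyFunctor Y.Modules (i : ℤ)).map (tr K hle)
    have hff : (homologyFunctor Y.Modules (i : ℤ)).map (tr K (hle.trans hd)) = f ≫ f' := by
      rw [← Functor.map_comp, tr_comp]
    rw [hff]
    obtain ⟨q, hq⟩ := exists_epi_image f f'
    have hcoh' : Coh.IsCoh (image f) := hcoh
    have hcoh2 : Coh.IsCoh (image (f ≫ f')) :=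
      Groth.Agent.FormalB.FormalLoc.isCoh_of_epi_mono q (image.ι (f ≫ f')) hcoh' ((hK e).2.2 i).1
    refine GoodSupp.good N hN _ g i hg hi (Groth.Agent.FormalA.Support.isClosed_support _ hcoh2.2) (fun y hy => ?_) m hm
    refine he₀ (max e e₀) (le_max_right e e₀) y ?_
    rw [← Groth.Agent.FormalA.Support.support_eq_of_iso a]
    exact Groth.Agent.FormalA.Support.support_subset_of_epi q hy
  · refine ⟨e, le_refl e, good_of_isZero _ _ ?_⟩
    have hz : IsZero ((homologyFunctor Y.Modules j).obj (K.obj (op e))) := by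
      rcases lt_or_ge j 0 with h | h
      · have := (hK e).1
        exact DerivedCategory.isZero_of_isGE _ 0 j h
      · have := (hK e).2.1
        exact DerivedCategory.isZero_of_isLE _ (g : ℤ) j (by lia)
    exact hz.of_mono (image.ι _)

/-- **Transfer along a faithful functor.** -/
theorem ext_comp_eq_zero [HasExt.{u} X.Modules] (Φ : DCoh.D X ⥤ DCoh.D Y) (Ω : ℕᵒᵖ ⥤ X.Modules) (E : X.Modules) (n : ℕ)
    (hfaith : ∀ (e : ℕ) (f : (DCoh.inD X E)⟦-(n : ℤ)⟧ ⟶ DCoh.inD X (Ω.obj (op e))), Φ.map f = 0 → f = 0)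
    {N : DCoh.D Y} (a : Φ.obj ((DCoh.inD X E)⟦-(n : ℤ)⟧) ≅ N)
    (hpz : PZ N (Ω ⋙ singleFunctor X.Modules 0 ⋙ Φ)) (e : ℕ) :
    ∃ (d : ℕ) (h : e ≤ d), ∀ x : Abelian.Ext.{u} E (Ω.obj (op d)) n,
      x.comp (Abelian.Ext.mk₀ (Ω.map (homOfLE h).op)) (add_zero n) = 0 := by
  obtain ⟨d, h, hd⟩ := hpz e
  refine ⟨d, h, fun x => ?_⟩
  let t := Ω.map (homOfLE h).op
  -- every morphism `E[-n] ⟶ Ω_d` becomes zero
  have h1 : ∀ z : (DCoh.inD X E)⟦-(n : ℤ)⟧ ⟶ DCoh.inD X (Ω.obj (op d)),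
      z ≫ (singleFunctor X.Modules 0).map t = 0 := by
    intro z
    refine hfaith e _ ?_
    rw [Functor.map_comp]
    have h2 := hd (a.inv ≫ Φ.map z)
    rw [Category.assoc] at h2
    have h3 : a.inv ≫ (Φ.map z ≫ Φ.map ((singleFunctor X.Modules 0).map t)) = a.inv ≫ 0 := by
      rw [comp_zero]
      exact h2
    exact (cancel_epi a.inv).1 h3
  let e1 : (DCoh.inD X E) ≅ ((DCoh.inD X E)⟦-(n : ℤ)⟧)⟦(n : ℤ)⟧ :=
    (shiftFunctorCompIsoId _ (-(n : ℤ)) (n : ℤ) (neg_add_cancel _)).symm.app _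
  obtain ⟨z, hz⟩ := (shiftFunctor (DCoh.D X) (n : ℤ)).map_surjective (e1.inv ≫ x.hom)
  have h4 : x.hom = e1.hom ≫ z⟦(n : ℤ)⟧' := by rw [hz, Iso.hom_inv_id_assoc]
  apply Abelian.Ext.homEquiv.injective
  change (x.comp (Abelian.Ext.mk₀ t) (add_zero n)).hom = (0 : Abelian.Ext.{u} E (Ω.obj (op e)) n).hom
  rw [Abelian.Ext.comp_hom, Abelian.Ext.mk₀_hom, Abelian.Ext.zero_hom, ShiftedHom.comp_mk₀, h4, Category.assoc,
    ← Functor.map_comp, h1 z, Functor.map_zero, comp_zero]

end K785.Core
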