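import Groth.Agent.S0036
import Groth.Agent.PerfC.RpushSingle
import Groth.Agent.Ega3B.RpushAff
import Groth.Agent.Flat2G.NoethVanish
import Groth.Agent.PerfB.TensExact
import Groth.Agent.PerfB.TensInv
import Groth.Agent.Dcoh.DerPull2
import Groth.Agent.Flat2G.ProperDim
import Groth.Agent.PerfB.FlatPull
import Groth.Agent.Fga.TwistCoh
import Groth.Agent.FormalB.PullCoh
import Groth.Agent.PerfA.CohSerre
import Groth.Agent.Dcoh.DerSch

/-!
# Amplitude and coherence of Fourier–Mukai transforms of coherent modules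

`p : W ⟶ X` flat, `q : W ⟶ Y` proper with fibres of dimension at most `g`, `P` invertible on `W`.
For `M` coherent on `X`, `K = Rq_*(Lp^* M ⊗^L P)` has coherent cohomology sheaves in degrees `[0, g]`.
-/

set_option autoImplicit false
universe u

open CategoryTheory CategoryTheory.Limits AlgebraicGeometry Opposite

attribute [local instance] HasDerivedCategory.standard

namespace K785.FMBound

open Groth.Agent Groth.Agent.PerfB.TensExact Groth.Agent.PerfB.TensInv Groth.Agent.Dcoh.DerPull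

variable {X Y W : Scheme.{u}}

theorem isZero_Rpush_of_dim (q : W ⟶ Y) [IsProper q] [IsLocallyNoetherian Y] [HasInjectiveResolutions W.Modules]
    (g : ℕ) (hg : ∀ y : Y, topologicalKrullDim ↥(q.fiber y) ≤ g) (F : W.Modules) (hF : Coh.IsQCoh F) (n : ℕ)
    (hn : g < n) : IsZero ((Coh.Rpush q n).obj F) := by
  rw [Ega3B.RpushAff.isZero_iff q F hF n]
  intro V hV
  have : IsAffine V := hV
  have hq : Coh.IsQCoh (F.restrict (q ⁻¹ᵁ V).ι) := CohqB.LocalQC.isQCoh_restrict _ hF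
  refine Flat2G.NoethVanish.subsingleton_HH (q ∣_ V) g (fun s => ?_) _ hq n hn
  rw [Flat2G.ProperDim.topologicalKrullDim_fiber_baseChange q (q ∣_ V) _ _ (isPullback_morphismRestrict q V).flip s]
  exact hg _

variable (p : W ⟶ X) (q : W ⟶ Y) {P : W.Modules} 

theorem nonempty_lpull [Flat p] [DCoh.HasLpull p] (M : X.Modules) :
    Nonempty ((DCoh.Lpull p).obj (DCoh.inD X M) ≅ DCoh.inD W ((Scheme.Modules.pullback p).obj M)) :=
  ⟨(lpullFlatIso p).app _ ≪≫ ((Scheme.Modules.pullback p).mapDerivedCategorySingleFunctor 0).app M⟩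

theorem nonempty_tens (hP : PicF.IsInvertible P) [DCoh.HasLTensorMod P] (M : W.Modules) :
    Nonempty ((DCoh.LTensorMod P).obj (DCoh.inD W M) ≅ DCoh.inD W (CohB1.tensorMod M P)) := by
  have := preservesFiniteLimits_of_isInvertible hP
  exact ⟨(LTensorModIso P).app _ ≪≫ ((DCoh.tensorRightMod P).mapDerivedCategorySingleFunctor 0).app M⟩

theorem nonempty_fm [Flat p] (hP : PicF.IsInvertible P) [DCoh.HasLpull p] [DCoh.HasLTensorMod P] [DCoh.HasRpush q]
    (M : X.Modules) :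
    Nonempty ((DCoh.Lpull p ⋙ DCoh.LTensorMod P ⋙ DCoh.Rpush q).obj (DCoh.inD X M) ≅
      (DCoh.Rpush q).obj (DCoh.inD W (CohB1.tensorMod ((Scheme.Modules.pullback p).obj M) P))) := by
  obtain ⟨e1⟩ := nonempty_lpull p M
  obtain ⟨e2⟩ := nonempty_tens hP ((Scheme.Modules.pullback p).obj M)
  exact ⟨(DCoh.Rpush q).mapIso ((DCoh.LTensorMod P).mapIso e1 ≪≫ e2)⟩

/-- **Amplitude and coherence.** -/
theorem main [Flat p] (hP : PicF.IsInvertible P) [DCoh.HasLpull p] [DCoh.HasLTensorMod P] [DCoh.HasRpush q]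
    [IsProper q] [IsLocallyNoetherian Y] (g : ℕ) (hg : ∀ y : Y, topologicalKrullDim ↥(q.fiber y) ≤ g)
    (M : X.Modules) (hM : Coh.IsCoh M) (K : DCoh.D Y)
    (e : K ≅ (DCoh.Lpull p ⋙ DCoh.LTensorMod P ⋙ DCoh.Rpush q).obj (DCoh.inD X M)) :
    K.IsGE 0 ∧ K.IsLE (g : ℤ) ∧ ∀ j : ℤ, Coh.IsCoh (DCoh.HD K j) := by
  have hW : IsLocallyNoetherian W := LocallyOfFiniteType.isLocallyNoetherian q
  have hinj : HasInjectiveResolutions W.Modules := Dcoh.DerSch.hasInjectiveResolutions W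
  obtain ⟨e1⟩ := nonempty_fm p q hP M
  let F : W.Modules := CohB1.tensorMod ((Scheme.Modules.pullback p).obj M) P
  have hF : Coh.IsCoh F := by
    have h1 : Coh.IsCoh ((Scheme.Modules.pullback p).obj M) := FormalB.PullCoh.isCoh_pullback p hM
    exact Fga.TwistCoh.isCoh_tensor h1 hP
  let K' : DCoh.D Y := (DCoh.Rpush q).obj (DCoh.inD W F)
  let e2 : K ≅ K' := e ≪≫ e1
  have hGE : K'.IsGE 0 := by
    rw [DerivedCategory.isGE_iff]
    intro i hi
    exact PerfC.RpushSingle.isZero_of_neg q F i hi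
  have hLE : K'.IsLE (g : ℤ) := by
    rw [DerivedCategory.isLE_iff]
    intro i hi
    obtain ⟨n, rfl⟩ : ∃ n : ℕ, i = (n : ℤ) := ⟨i.toNat, by lia⟩
    exact (isZero_Rpush_of_dim q g hg F hF.1 n (by exact_mod_cast hi)).of_iso (PerfC.RpushSingle.iso q n F)
  refine ⟨DerivedCategory.TStructure.t.isGE_of_iso e2.symm 0, DerivedCategory.TStructure.t.isLE_of_iso e2.symm _,
    fun j => ?_⟩
  let e3 : DCoh.HD K' j ≅ DCoh.HD K j := ((DerivedCategory.homologyFunctor Y.Modules j).mapIso e2).symm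
  refine PerfA.CohSerre.isCoh_of_iso e3 ?_
  rcases lt_or_ge j 0 with hj | hj
  · exact PerfA.CohSerre.isCoh_of_isZero (PerfC.RpushSingle.isZero_of_neg q F j hj)
  · obtain ⟨n, rfl⟩ : ∃ n : ℕ, j = (n : ℤ) := ⟨j.toNat, by lia⟩
    exact PerfA.CohSerre.isCoh_of_iso (PerfC.RpushSingle.iso q n F).symm (S0036.result q F hF n)

end K785.FMBound
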