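import Groth.Agent.AbVar.K785.FMBound
import Groth.Agent.Dcoh.DerPull
import Groth.Agent.Dcoh.DerSch

/-!
# Fourier–Mukai functors with invertible kernel commute with shifts
-/

set_option autoImplicit false
universe u

open CategoryTheory CategoryTheory.Limits AlgebraicGeometry

attribute [local instance] HasDerivedCategory.standard

namespace K785.FMShift

open Groth.Agent Groth.Agent.PerfB.TensExact Groth.Agent.PerfB.TensInv Groth.Agent.Dcoh

variable {X Y W : Scheme.{u}}

/-- A functor isomorphic to one commuting with shifts commutes with shifts on objects. -/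
theorem nonempty_lt_shift {P : W.Modules} (hP : PicF.IsInvertible P) [DCoh.HasLTensorMod P] (K : DCoh.D W)
    (n : ℤ) : Nonempty ((DCoh.LTensorMod P).obj (K⟦n⟧) ≅ ((DCoh.LTensorMod P).obj K)⟦n⟧) := by
  have := preservesFiniteLimits_of_isInvertible hP
  let F := (DCoh.tensorRightMod P).mapDerivedCategory
  exact ⟨(LTensorModIso P).app _ ≪≫ (F.commShiftIso n).app K ≪≫
    (shiftFunctor (DCoh.D W) n).mapIso ((LTensorModIso P).app K).symm⟩

theorem nonempty_shift (p : W ⟶ X) (q : W ⟶ Y) {P : W.Modules} (hP : PicF.IsInvertible P)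
    [DCoh.HasLpull p] [DCoh.HasLTensorMod P] [DCoh.HasRpush q] (K : DCoh.D X) (n : ℤ) :
    Nonempty ((DCoh.Lpull p ⋙ DCoh.LTensorMod P ⋙ DCoh.Rpush q).obj (K⟦n⟧) ≅
      ((DCoh.Lpull p ⋙ DCoh.LTensorMod P ⋙ DCoh.Rpush q).obj K)⟦n⟧) := by
  letI := DerPull.lpullCommShift p
  letI := DerSch.rpushCommShift q
  obtain ⟨e⟩ := nonempty_lt_shift hP ((DCoh.Lpull p).obj K) n
  exact ⟨(DCoh.Rpush q).mapIso ((DCoh.LTensorMod P).mapIso (((DCoh.Lpull p).commShiftIso n).app K) ≪≫ e) ≪≫
    ((DCoh.Rpush q).commShiftIso n).app _⟩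

end K785.FMShift
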