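import Groth.Agent.AbVar.K785.Assemble
import Groth.Agent.AbVar.K785.FMShift
import Groth.Agent.PerfA.QCohD
import Groth.Agent.PerfA.QCohEpi

/-!
# Vanishing from an invertible Fourier–Mukai functor

`Φ = Rq_* (Lp^* (-) ⊗ P) : D(X) ⥤ D(Y)` with `p` flat, `q` proper with fibres of dimension at most `g`, `dim Y ≤ g`,
`P` invertible, `Ψ : D(Y) ⥤ D(X)` with `Ψ ∘ Φ` faithful on objects with quasi-coherent cohomology,
`Φ(Ψ(L)) = N[-g]` and `Ψ(L) = E`, `E` and `N` finite locally free. Under the conditions of `K785.Assemble` on the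
transforms of the tower `Ω` of coherent modules, `H^n(X, (lim Ω) ⊗ E^∨) = 0` for `n > 0`.
-/

set_option autoImplicit false
universe u

open CategoryTheory CategoryTheory.Limits AlgebraicGeometry Opposite TopologicalSpace DerivedCategory
attribute [local instance] HasDerivedCategory.standard

namespace K785.FMGlue

open Groth.Agent

variable {X Y W : Scheme.{u}}

/-- Faithfulness on morphisms between objects of `D_qc` from a composite. -/
theorem faithful_of_comp (Φ : DCoh.D X ⥤ DCoh.D Y) (Ψ : DCoh.D Y ⥤ DCoh.D X) [Ψ.PreservesZeroMorphisms]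
    (T : DCoh.D X ⥤ DCoh.D X) [T.Faithful] [T.PreservesZeroMorphisms]
    (m : Nonempty (ObjectProperty.ι (DCoh.IsQCohD (X := X)) ⋙ Φ ⋙ Ψ ≅ ObjectProperty.ι (DCoh.IsQCohD (X := X)) ⋙ T))
    {K K' : DCoh.D X} (hK : DCoh.IsQCohD K) (hK' : DCoh.IsQCohD K') (f : K ⟶ K') (hf : Φ.map f = 0) : f = 0 := by
  obtain ⟨m⟩ := m
  let A : (DCoh.IsQCohD (X := X)).FullSubcategory := ⟨K, hK⟩
  let B : (DCoh.IsQCohD (X := X)).FullSubcategory := ⟨K', hK'⟩
  let f' : A ⟶ B := ObjectProperty.homMk f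
  have h1 : (ObjectProperty.ι (DCoh.IsQCohD (X := X)) ⋙ Φ ⋙ Ψ).map f' = 0 := by
    change Ψ.map (Φ.map f) = 0
    rw [hf]
    exact Functor.map_zero _ _ _
  have h2 : (ObjectProperty.ι (DCoh.IsQCohD (X := X)) ⋙ T).map f' = 0 := by
    have := m.hom.naturality f'
    rw [h1, zero_comp] at this
    exact (cancel_epi (m.hom.app A)).1 (this.symm.trans comp_zero.symm)
  have h3 : T.map f = T.map 0 := h2.trans (T.map_zero _ _).symm
  exact T.map_injective h3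

/-- Fourier–Mukai functors with invertible kernel preserve zero morphisms. -/
theorem preservesZeroMorphisms_fm (p : W ⟶ X) (q : W ⟶ Y) {P : W.Modules} (hP : PicF.IsInvertible P)
    [DCoh.HasLpull p] [DCoh.HasLTensorMod P] [DCoh.HasRpush q] :
    (DCoh.Lpull p ⋙ DCoh.LTensorMod P ⋙ DCoh.Rpush q).PreservesZeroMorphisms := by
  have := Groth.Agent.PerfB.TensInv.preservesFiniteLimits_of_isInvertible hP
  let F := (DCoh.tensorRightMod P).mapDerivedCategory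
  letI := Dcoh.DerPull.lpullCommShift p
  letI := Dcoh.DerSch.rpushCommShift q
  have t1 := Dcoh.DerPull.lpull_isTriangulated p
  have t2 := Dcoh.DerSch.rpush_isTriangulated q
  have h1 : (DCoh.Lpull p).PreservesZeroMorphisms := inferInstance
  have h3 : (DCoh.Rpush q).PreservesZeroMorphisms := inferInstance
  have h2 : (DCoh.LTensorMod P).PreservesZeroMorphisms :=
    Functor.preservesZeroMorphisms_of_iso (Groth.Agent.PerfB.TensExact.LTensorModIso P).symm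
  infer_instance

theorem main (p : W ⟶ X) (q : W ⟶ Y) {P : W.Modules} [Flat p] (hP : PicF.IsInvertible P) [DCoh.HasLpull p]
    [DCoh.HasLTensorMod P] [DCoh.HasRpush q] [IsProper q] [IsLocallyNoetherian Y] [NoetherianSpace Y] (g : ℕ)
    (hq : ∀ y : Y, topologicalKrullDim ↥(q.fiber y) ≤ g) (hY : topologicalKrullDim Y ≤ g)
    (Ω : ℕᵒᵖ ⥤ X.Modules) (hΩ : ∀ n : ℕᵒᵖ, Coh.IsCoh (Ω.obj n))
    (hML : ∀ i : ℤ, K415.TowerSheaf.IsML
      (Ω ⋙ singleFunctor X.Modules 0 ⋙ (DCoh.Lpull p ⋙ DCoh.LTensorMod P ⋙ DCoh.Rpush q) ⋙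
        homologyFunctor Y.Modules i))
    (hcodim : ∀ i : ℕ, i ≤ g → ∃ e₀ : ℕ, ∀ e : ℕ, e₀ ≤ e →
      ∀ y ∈ CohB1.support (image (limit.π
          (Ω ⋙ singleFunctor X.Modules 0 ⋙ (DCoh.Lpull p ⋙ DCoh.LTensorMod P ⋙ DCoh.Rpush q) ⋙
            homologyFunctor Y.Modules (i : ℤ)) (op e))),
        (i : WithBot ℕ∞) ≤ ringKrullDim (Y.presheaf.stalk y))
    (Ψ : DCoh.D Y ⥤ DCoh.D X) [Ψ.PreservesZeroMorphisms] (T : DCoh.D X ⥤ DCoh.D X) [T.Faithful] [T.PreservesZeroMorphisms]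
    (m : Nonempty (ObjectProperty.ι (DCoh.IsQCohD (X := X)) ⋙
      (DCoh.Lpull p ⋙ DCoh.LTensorMod P ⋙ DCoh.Rpush q) ⋙ Ψ ≅ ObjectProperty.ι (DCoh.IsQCohD (X := X)) ⋙ T))
    (L N : Y.Modules) (hN : FlatMod.IsFinLocFree N)
    (m' : Nonempty ((DCoh.Lpull p ⋙ DCoh.LTensorMod P ⋙ DCoh.Rpush q).obj (Ψ.obj (DCoh.inD Y L)) ≅
      (DCoh.inD Y N)⟦-(g : ℤ)⟧))
    (E : X.Modules) (hE : FlatMod.IsFinLocFree E) [DCoh.HasSheafHom E]
    (eE : Nonempty (Ψ.obj (DCoh.inD Y L) ≅ DCoh.inD X E)) (n : ℕ) (hn : 0 < n)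
    (hlim : ∀ x : Coh.HH X ((DCoh.tensorBi.obj (limit Ω)).obj ((DCoh.sheafHom E).obj (Coh.structureModule X))) n,
      (∀ e : ℕ, Assemble.hmap ((DCoh.sheafHom E).obj (Coh.structureModule X)) (limit.π Ω (op e)) n x = 0) → x = 0) :
    Subsingleton (Coh.HH X (CohB1.tensorMod (limit Ω) ((DCoh.sheafHom E).obj (Coh.structureModule X))) n) := by
  have hqE : Coh.IsQCoh E := Groth.Agent.PerfA.QCohEpi.isQCoh_of_isFinLocFree hE
  refine Assemble.main (DCoh.Lpull p ⋙ DCoh.LTensorMod P ⋙ DCoh.Rpush q) Ω g hY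
    (fun e => FMBound.main p q hP g hq (Ω.obj (op e)) (hΩ _) _ (Iso.refl _)) hML hcodim E hE N hN n hn ?_ ?_ hlim
  · obtain ⟨m'⟩ := m'
    obtain ⟨eE⟩ := eE
    obtain ⟨s⟩ := FMShift.nonempty_shift p q hP (DCoh.inD X E) (-(n : ℤ))
    refine ⟨s ≪≫ (shiftFunctor (DCoh.D Y) (-(n : ℤ))).mapIso
      ((DCoh.Lpull p ⋙ DCoh.LTensorMod P ⋙ DCoh.Rpush q).mapIso eE.symm ≪≫ m') ≪≫ ?_⟩
    exact ((shiftFunctorAdd' (DCoh.D Y) (-(g : ℤ)) (-(n : ℤ)) (-((g : ℤ) + n)) (by ring)).app (DCoh.inD Y N)).symm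
  · intro e f hf
    exact faithful_of_comp _ Ψ T m
      (PerfA.QCohD.isQCohD_shift (PerfA.QCohD.isQCohD_inD _ hqE) _) (PerfA.QCohD.isQCohD_inD _ (hΩ _).1) f hf

end K785.FMGlue
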