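import Groth.Agent.AbVar.K785.FMGlue
import Groth.Agent.AbVar.K232.FMFinal
import Groth.Agent.AbVar.K511.PC1
import Groth.Agent.AbVar.K511.PC2

/-!
# Vanishing of `H^i(A, Ω ⊗ L̂^∨)` for an abelian variety
-/

set_option autoImplicit false
universe u

open CategoryTheory CategoryTheory.Limits MonoidalCategory CartesianMonoidalCategory MonObj GrpObj AlgebraicGeometry
  Opposite TopologicalSpace DerivedCategory
attribute [local instance] HasDerivedCategory.standard

namespace K785.FMUse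

open Groth.Agent

theorem dim_fiber_snd {k : Type u} [Field k] (A At : Over (Spec (CommRingCat.of k))) [LocallyOfFiniteType A.hom]
    (g : ℕ) (hg : topologicalKrullDim ↥A.left = g) (y : At.left) :
    topologicalKrullDim ((pullback.snd A.hom At.hom).fiber y) ≤ g := by
  rw [Flat2G.ProperDim.topologicalKrullDim_fiber_baseChange A.hom (pullback.snd A.hom At.hom)
    (pullback.fst A.hom At.hom) At.hom (IsPullback.of_hasPullback A.hom At.hom) y, ← hg]
  exact (A.hom.fiberι (At.hom y)).isEmbedding.toIsInducing.topologicalKrullDim_le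

section Main

variable {k : Type u} [Field k] {A At : Over (Spec (CommRingCat.of k))} [GrpObj A] [IsProper A.hom]
  [Smooth A.hom] [GeometricallyConnected A.hom] [GrpObj At] [IsProper At.hom] [Smooth At.hom]
  [GeometricallyConnected At.hom]
variable {φ : ∀ T : Over (Spec (CommRingCat.of k)), PicF.Cl (PicF.XT A.hom T) → (T ⟶ At)}
  (hφ : AbDual.IsDualAV Scheme.fppfPrecoverage A At φ)
  {P : (pullback A.hom At.hom).Modules} (hP : PicF.IsInvertible P)
  (hPξ : AbDual.IsPoincareCl A At φ (PicF.cl P))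

include hφ hP hPξ in
theorem main (g : ℕ) (hg : topologicalKrullDim ↥A.left = g)
    [DCoh.HasLpull (pullback.fst A.hom At.hom)] [DCoh.HasLTensorMod P] [DCoh.HasRpush (pullback.snd A.hom At.hom)]
    [DCoh.HasLpull (pullback.fst At.hom A.hom)]
    [DCoh.HasLTensorMod ((Scheme.Modules.pullback (pullbackSymmetry At.hom A.hom).hom).obj P)]
    [DCoh.HasRpush (pullback.snd At.hom A.hom)]
    (Ω : ℕᵒᵖ ⥤ A.left.Modules) (hΩ : ∀ n : ℕᵒᵖ, Coh.IsCoh (Ω.obj n))
    (hML : ∀ i : ℤ, K415.TowerSheaf.IsML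
      (Ω ⋙ DerivedCategory.singleFunctor A.left.Modules 0 ⋙ (DCoh.Lpull (pullback.fst A.hom At.hom) ⋙ DCoh.LTensorMod P ⋙ DCoh.Rpush (pullback.snd A.hom At.hom)) ⋙ DerivedCategory.homologyFunctor At.left.Modules i))
    (hcodim : ∀ i : ℕ, i ≤ g → ∃ e₀ : ℕ, ∀ e : ℕ, e₀ ≤ e →
      ∀ y ∈ CohB1.support (image (limit.π (Ω ⋙ DerivedCategory.singleFunctor A.left.Modules 0 ⋙ (DCoh.Lpull (pullback.fst A.hom At.hom) ⋙ DCoh.LTensorMod P ⋙ DCoh.Rpush (pullback.snd A.hom At.hom)) ⋙ DerivedCategory.homologyFunctor At.left.Modules (i : ℤ)) (op e))),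
        (i : WithBot ℕ∞) ≤ ringKrullDim ↑(At.left.presheaf.stalk y))
    (L : At.left.Modules) (hL : PicF.IsInvertible L)
    (E : A.left.Modules) (hE : FlatMod.IsFinLocFree E) [DCoh.HasSheafHom E]
    (eE : Nonempty ((DCoh.Lpull (pullback.fst At.hom A.hom) ⋙ DCoh.LTensorMod ((Scheme.Modules.pullback (pullbackSymmetry At.hom A.hom).hom).obj P) ⋙ DCoh.Rpush (pullback.snd At.hom A.hom)).obj (DCoh.inD At.left L) ≅ DCoh.inD A.left E))
    (n : ℕ) (hn : 0 < n)
    (hlim : ∀ x : Coh.HH A.left ((DCoh.tensorBi.obj (limit Ω)).obj ((DCoh.sheafHom E).obj (Coh.structureModule A.left))) n,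
      (∀ e : ℕ, Assemble.hmap ((DCoh.sheafHom E).obj (Coh.structureModule A.left)) (limit.π Ω (op e)) n x = 0) → x = 0) :
    Subsingleton (Coh.HH A.left (CohB1.tensorMod (limit Ω) ((DCoh.sheafHom E).obj (Coh.structureModule A.left))) n) := by
  have hinj : HasInjectiveResolutions (pullback A.hom At.hom).Modules := Dcoh.DerSch.hasInjectiveResolutions _
  obtain ⟨ζ, h1, h2, h3, h4⟩ := K732.AV.exists_of_isPoincareCl hPξ
  have hζ : ζ = Grpsch.PicGrp.mk P hP := Fga.RigGrp.toCl_injective h4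
  have hdim : topologicalKrullDim At.left = g := K511.DimEq.dim_eq hφ h1 h2 h3 hP hζ g hg
  have pc1 : K232.FMFinal.PC (pullback.fst A.hom At.hom) η[A].left P g :=
    ⟨fun i hi => K511.PC1.isZero hφ h1 h2 h3 hP hζ g hg i hi, K511.PC1.nonempty_iso hφ h1 h2 h3 hP hζ g hg⟩
  have pc2 : K232.FMFinal.PC (pullback.snd A.hom At.hom) η[At].left P g :=
    ⟨fun i hi => K511.PC2.isZero hφ h1 h2 h3 hP hζ g hg i hi, K511.PC2.nonempty_iso hφ h1 h2 h3 hP hζ g hg⟩
  have i1 : DCoh.HasLpull ((𝟙 A)⁻¹).left := Dcoh.DerPull.hasLpull _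
  have i2 : DCoh.HasLpull ((𝟙 At)⁻¹).left := Dcoh.DerPull.hasLpull _
  have m := K232.FMFinal.conv_iso hφ hP hPξ g pc1
  obtain ⟨m'⟩ := K232.FMFinal.conv_iso' hφ hP hPξ g pc2
  have hPs : PicF.IsInvertible ((Scheme.Modules.pullback (pullbackSymmetry At.hom A.hom).hom).obj P) :=
    K232.FMAV.inv_swp hP
  have i3 := FMGlue.preservesZeroMorphisms_fm (pullback.fst At.hom A.hom) (pullback.snd At.hom A.hom) hPs
  have i4 : (DCoh.Lpull ((𝟙 A)⁻¹).left ⋙ shiftFunctor (DCoh.D A.left) (-(g : ℤ))).IsEquivalence :=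
    K232.FMEquiv.isEquivalence_T ((𝟙 A)⁻¹).left K232.FMAV.inv_comp_inv (-(g : ℤ))
  have i5 : IsLocallyNoetherian At.left := LocallyOfFiniteType.isLocallyNoetherian At.hom
  have i6 : CompactSpace At.left := QuasiCompact.compactSpace_of_compactSpace At.hom
  have i7 : IsNoetherian At.left := {}
  have i8 : NoetherianSpace At.left := inferInstance
  obtain ⟨a⟩ := K232.FMInv.nonempty_lpull ((𝟙 At)⁻¹).left hL
  have hqL : DCoh.IsQCohD (DCoh.inD At.left L) := K232.FMInv.qc_inD hL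
  let b := m'.app (⟨DCoh.inD At.left L, hqL⟩ : (DCoh.IsQCohD (X := At.left)).FullSubcategory)
  refine FMGlue.main (pullback.fst A.hom At.hom) (pullback.snd A.hom At.hom) hP g (dim_fiber_snd A At g hg) hdim.le Ω hΩ
    hML hcodim (DCoh.Lpull (pullback.fst At.hom A.hom) ⋙ DCoh.LTensorMod ((Scheme.Modules.pullback (pullbackSymmetry At.hom A.hom).hom).obj P) ⋙ DCoh.Rpush (pullback.snd At.hom A.hom))
    (DCoh.Lpull ((𝟙 A)⁻¹).left ⋙ shiftFunctor (DCoh.D A.left) (-(g : ℤ))) m L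
    ((Scheme.Modules.pullback ((𝟙 At)⁻¹).left).obj L)
    (K232.FMInv.isFinLocFree_of_isInvertible (Fdesc.LocGen.isInvertible_pullback _ hL)) ?_ E hE eE n hn hlim
  exact ⟨b ≪≫ (shiftFunctor (DCoh.D At.left) (-(g : ℤ))).mapIso a⟩

end Main

end K785.FMUse
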