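import Mathlib.AlgebraicGeometry.Properties
import Mathlib.Topology.KrullDimension

/-!
# Dimension of closed subsets of codimension at least `j`
-/

set_option autoImplicit false
universe u

open AlgebraicGeometry TopologicalSpace Topology

namespace K785.SuppDim

theorem krullDim_spec {T : Type u} [TopologicalSpace T] [QuasiSober T] [T0Space T] :
    topologicalKrullDim T = @Order.krullDim T (specializationPreorder T) := by
  let _ := specializationOrder T
  exact Order.krullDim_eq_of_orderIso (irreducibleSetEquivPoints (α := T))

theorem krullDim_closed {X : Scheme.{u}} (Z : Set X) (hZ : IsClosed Z) :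
    topologicalKrullDim Z = Order.krullDim Z := by
  have hq : QuasiSober Z := hZ.isClosedEmbedding_subtypeVal.quasiSober
  rw [krullDim_spec]
  exact @Order.krullDim_eq_of_orderIso _ _ (specializationPreorder Z) _
    { toFun := fun y => y
      invFun := fun y => y
      left_inv := fun _ => rfl
      right_inv := fun _ => rfl
      map_rel_iff' := fun {a b} => (subtype_specializes_iff (x := b) (y := a)).symm }

/-- If the local rings at the points of a closed set `Z` have dimension at least `j`, then
`dim Z + j ≤ dim X`. -/
theorem dim_le {X : Scheme.{u}} (Z : Set X) (hZ : IsClosed Z) (g j : ℕ) (hg : topologicalKrullDim X ≤ g)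
    (h : ∀ y ∈ Z, (j : WithBot ℕ∞) ≤ ringKrullDim (X.presheaf.stalk y)) :
    topologicalKrullDim Z ≤ ((g - j : ℕ) : WithBot ℕ∞) := by
  rw [krullDim_closed Z hZ]
  rw [krullDim_spec] at hg
  refine iSup_le fun p => ?_
  let p' : LTSeries X := p.map Subtype.val (fun a b hab => hab)
  have h1 := h _ (p.last).2
  rw [ringKrullDim_stalk_eq_coheight] at h1
  have h2 : (j : ℕ∞) ≤ Order.coheight (p.last).1 := WithBot.coe_le_coe.1 h1
  obtain ⟨q, hq1, hq2⟩ := Order.exists_series_of_le_coheight _ h2
  have hs : p'.last = q.head := hq1.symm
  have h3 := (Order.LTSeries.length_le_krullDim (p'.smash q hs)).trans hg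
  have h4 : (p'.smash q hs).length = p.length + j := by
    change p'.length + q.length = _
    rw [hq2]
    rfl
  rw [h4] at h3
  have h5 : p.length + j ≤ g := by exact_mod_cast h3
  exact_mod_cast (by lia : p.length ≤ g - j)

end K785.SuppDim
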