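import Groth.Agent.AbVar.K785.ProZero
import Groth.Agent.AbVar.K785.SuppDim
import Groth.Agent.AbVar.K785.ExtDual
import Groth.Agent.CohqB.SuppVanish
import Groth.Agent.Dcoh.MonClosed
import Groth.Agent.Dcoh.StalkT

/-!
# Vanishing of `Hom_D(N[-m], T[-j])` for sheaves `T` with small support
-/

set_option autoImplicit false
universe u

open CategoryTheory CategoryTheory.Limits AlgebraicGeometry Opposite TopologicalSpace DerivedCategory MonoidalCategory
attribute [local instance] HasDerivedCategory.standard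

namespace K785.GoodSupp

open Groth.Agent K785.ProZero

section Abs

variable {C : Type*} [Category C] [Abelian C] [HasDerivedCategory C]

/-- Morphisms `N[-m] ⟶ T[-j]` are zero if every morphism `N ⟶ T[m - j]` is. -/
theorem good_of_shifted (N T : C) (m j p : ℤ) (hp : j + p = m)
    (h : ∀ y : (singleFunctor C 0).obj N ⟶ ((singleFunctor C 0).obj T)⟦p⟧, y = 0) :
    Good (((singleFunctor C 0).obj N)⟦-m⟧) j T := by
  intro x
  let e1 : (singleFunctor C 0).obj N ≅ (((singleFunctor C 0).obj N)⟦-m⟧)⟦m⟧ :=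
    (shiftFunctorCompIsoId _ (-m) m (neg_add_cancel m)).symm.app _
  let e2 : ((singleFunctor C j).obj T)⟦m⟧ ≅ (singleFunctor C (-p)).obj T :=
    ((singleFunctors C).shiftIso m (-p) j (by lia)).app T
  let e3 : ((singleFunctor C 0).obj T)⟦p⟧ ≅ (singleFunctor C (-p)).obj T :=
    ((singleFunctors C).shiftIso p (-p) 0 (by lia)).app T
  have h1 := h (e1.hom ≫ x⟦m⟧' ≫ e2.hom ≫ e3.inv)
  have h2 : x⟦m⟧' = 0 := by
    rw [← cancel_epi e1.hom, ← cancel_mono (e2.hom ≫ e3.inv), comp_zero, zero_comp, Category.assoc]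
    exact h1
  exact (shiftFunctor (DerivedCategory C) m).map_injective (by rw [h2, Functor.map_zero])

theorem eq_zero_of_subsingleton_ext [HasExt C] (N T : C) (n : ℕ) [hs : Subsingleton (Abelian.Ext N T n)]
    (y : (singleFunctor C 0).obj N ⟶ ((singleFunctor C 0).obj T)⟦(n : ℤ)⟧) : y = 0 := by
  obtain ⟨a, rfl⟩ := (Abelian.Ext.homEquiv (X := N) (Y := T) (n := n)).surjective y
  rw [Subsingleton.elim a 0]
  exact Abelian.Ext.zero_hom _ _ _

end Abs

variable {X : Scheme.{u}}

/-- The support of a tensor product of modules. -/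
theorem support_tensor_left (G M : X.Modules) :
    CohB1.support ((DCoh.tensorRightMod G).obj M) ⊆ CohB1.support M := by
  intro x hx hG
  apply hx
  have h1 := (Dcoh.Stalk.tensorStalkIso M G x).toLinearEquiv.toEquiv.subsingleton_congr
  have h2 : Subsingleton (((Dcoh.Stalk.stalkF x).obj M) ⊗ ((Dcoh.Stalk.stalkF x).obj G) : ModuleCat _) := by
    have : Subsingleton ((Dcoh.Stalk.stalkF x).obj M) := hG
    exact inferInstanceAs (Subsingleton
      (TensorProduct (X.presheaf.stalk x) ((Dcoh.Stalk.stalkF x).obj M) ((Dcoh.Stalk.stalkF x).obj G)))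
  exact h1.2 h2

/-- Vanishing for a module with support of codimension at least `j`. -/
theorem good [NoetherianSpace X] (N : X.Modules) (hN : FlatMod.IsFinLocFree N) (T : X.Modules) (g j : ℕ)
    (hg : topologicalKrullDim X ≤ g) (hj : j ≤ g) (hcl : IsClosed (CohB1.support T))
    (hc : ∀ y ∈ CohB1.support T, (j : WithBot ℕ∞) ≤ ringKrullDim (X.presheaf.stalk y)) (m : ℤ) (hm : g < m) :
    Good ((DCoh.inD X N)⟦-m⟧) (j : ℤ) T := by
  obtain ⟨n, hn⟩ : ∃ n : ℕ, (j : ℤ) + (n : ℤ) = m := ⟨(m - j).toNat, by lia⟩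
  refine good_of_shifted N T m j n hn ?_
  have := HasExt.standard X.Modules
  obtain ⟨θ, -⟩ := K785.ExtDual.exists_equiv N hN n
  have hd := K785.SuppDim.dim_le (CohB1.support T) hcl g j hg hc
  have hs : Subsingleton (Abelian.Ext N T n) := by
    refine (θ T).toEquiv.subsingleton_congr.2 ?_
    refine CohqB.SuppVanish.subsingleton_H_of_support (Y := (X : TopCat.{u})) (CohB1.support T) hcl (g - j) hd
      (Coh.toAb (CohB1.tensorMod T ((DCoh.sheafHom N).obj (Coh.structureModule X)))) (fun y hy => ?_) n (by lia)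
    by_contra hs
    exact hy (support_tensor_left _ _ hs)
  exact fun y => eq_zero_of_subsingleton_ext N T n y

end K785.GoodSupp
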