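import Mathlib.Algebra.Homology.DerivedCategory.TStructure
import Mathlib.Algebra.Homology.DerivedCategory.HomologySequence
import Mathlib.Algebra.Homology.DerivedCategory.FullyFaithful
import Mathlib.CategoryTheory.Triangulated.TStructure.TruncLEGT
import Mathlib.CategoryTheory.Limits.Shapes.Images

/-!
# Morphisms into towers of bounded objects of a derived category

`K : ℕᵒᵖ ⥤ D(C)` a tower of objects in degrees `[0, b)`, `N` an object. If for every `j` and `e` there is `d ≥ e`
such that every morphism from `N` to the image of `H^j(K_d) ⟶ H^j(K_e)` placed in degree `j` is zero, then for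
every `e` there is `d ≥ e` such that every composite `N ⟶ K_d ⟶ K_e` is zero (`pz_of_image`).
-/

set_option autoImplicit false
universe w v u

open CategoryTheory CategoryTheory.Limits Opposite Pretriangulated DerivedCategory

namespace K785.ProZero

variable {C : Type u} [Category.{v} C] [Abelian C] [HasDerivedCategory.{w} C]

/-- The tower is eventually zero on morphisms from `N`. -/
def PZ (N : DerivedCategory C) (K : ℕᵒᵖ ⥤ DerivedCategory C) : Prop :=
  ∀ e : ℕ, ∃ (d : ℕ) (h : e ≤ d), ∀ x : N ⟶ K.obj (op d), x ≫ K.map (homOfLE h).op = 0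

/-- Every morphism from `N` to `T[-j]` is zero. -/
def Good (N : DerivedCategory C) (j : ℤ) (T : C) : Prop :=
  ∀ x : N ⟶ (singleFunctor C j).obj T, x = 0

theorem Good.of_iso {N : DerivedCategory C} {j : ℤ} {T T' : C} (h : Good N j T) (e : T ≅ T') : Good N j T' := by
  intro x
  rw [← cancel_mono ((singleFunctor C j).map e.inv), zero_comp]
  exact h _

theorem good_of_isZero (N : DerivedCategory C) (j : ℤ) {T : C} (h : IsZero T) : Good N j T := fun _ =>
  ((singleFunctor C j).map_isZero h).eq_of_tgt _ _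

/-- The images of isomorphic arrows. -/
noncomputable def imageIsoOf {X Y X' Y' : C} {f : X ⟶ Y} {g : X' ⟶ Y'} (a : X ≅ X') (b : Y ≅ Y')
    (w : f ≫ b.hom = a.hom ≫ g) : image f ≅ image g :=
  have : StrongEpi (a.hom ≫ factorThruImage g) := strongEpi_of_epi _
  (image.isoStrongEpiMono (f := f) (a.hom ≫ factorThruImage g) (image.ι g ≫ b.inv) (by
    rw [Category.assoc, image.fac_assoc, ← Category.assoc, ← w, Category.assoc, Iso.hom_inv_id,
      Category.comp_id])).symm

/-- A morphism between objects concentrated in degree `b` factors through the image in degree `b`. -/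
theorem exists_factor {X Y : DerivedCategory C} (b : ℤ) [X.IsGE b] [X.IsLE b] [Y.IsGE b] [Y.IsLE b]
    (f : X ⟶ Y) : ∃ (p : X ⟶ (singleFunctor C b).obj (image ((homologyFunctor C b).map f)))
      (i : (singleFunctor C b).obj (image ((homologyFunctor C b).map f)) ⟶ Y), p ≫ i = f := by
  obtain ⟨A, ⟨a⟩⟩ := exists_iso_singleFunctor_obj_of_isGE_of_isLE X b
  obtain ⟨B, ⟨c⟩⟩ := exists_iso_singleFunctor_obj_of_isGE_of_isLE Y b
  obtain ⟨φ, hφ⟩ := (singleFunctor C b).map_surjective (a.inv ≫ f ≫ c.hom)
  let s := singleFunctorCompHomologyFunctorIso C b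
  have hw : (homologyFunctor C b).map f ≫ ((homologyFunctor C b).mapIso c ≪≫ s.app B).hom =
      ((homologyFunctor C b).mapIso a ≪≫ s.app A).hom ≫ φ := by
    have h1 := s.hom.naturality φ
    dsimp only [Functor.comp_map, Functor.id_map, Functor.comp_obj, Functor.id_obj] at h1
    simp only [Iso.trans_hom, Functor.mapIso_hom, Iso.app_hom, Category.assoc]
    rw [← h1, hφ, ← Functor.map_comp_assoc, ← Functor.map_comp_assoc, Iso.hom_inv_id_assoc]
  let e : image ((homologyFunctor C b).map f) ≅ image φ := imageIsoOf _ _ hw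
  refine ⟨a.hom ≫ (singleFunctor C b).map (factorThruImage φ ≫ e.inv),
    (singleFunctor C b).map (e.hom ≫ image.ι φ) ≫ c.inv, ?_⟩
  rw [Category.assoc, ← Functor.map_comp_assoc, Category.assoc, Iso.inv_hom_id_assoc, image.fac, hφ]
  simp only [Category.assoc, Iso.hom_inv_id, Category.comp_id, Iso.hom_inv_id_assoc]

section Trunc

variable (X : DerivedCategory C) (b : ℤ)

theorem isIso_homology_truncLT (j : ℤ) (hj : j < b) :
    IsIso ((homologyFunctor C j).map ((TStructure.t.truncLTι b).app X)) := by
  have hT := TStructure.t.triangleLTGE_distinguished b X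
  have i1 : ((TStructure.t.truncGE b).obj X).IsGE b := inferInstance
  have z1 : IsZero ((homologyFunctor C j).obj ((TStructure.t.truncGE b).obj X)) :=
    DerivedCategory.isZero_of_isGE _ b j hj
  have z2 : IsZero ((homologyFunctor C (j - 1)).obj ((TStructure.t.truncGE b).obj X)) :=
    DerivedCategory.isZero_of_isGE _ b (j - 1) (by lia)
  have h1 : Mono ((homologyFunctor C j).map ((TStructure.t.truncLTι b).app X)) :=
    (DerivedCategory.HomologySequence.mono_homologyMap_mor₁_iff _ hT (j - 1) j (by lia)).2 (z2.eq_of_src _ _)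
  have h2 : Epi ((homologyFunctor C j).map ((TStructure.t.truncLTι b).app X)) :=
    (DerivedCategory.HomologySequence.epi_homologyMap_mor₁_iff _ hT j).2 (z1.eq_of_tgt _ _)
  exact isIso_of_mono_of_epi _

theorem isIso_homology_truncGE (j : ℤ) (hj : b ≤ j) :
    IsIso ((homologyFunctor C j).map ((TStructure.t.truncGEπ b).app X)) := by
  have hT := TStructure.t.triangleLTGE_distinguished b X
  have i1 : ((TStructure.t.truncLT b).obj X).IsLE (b - 1) := inferInstance
  have z1 : IsZero ((homologyFunctor C j).obj ((TStructure.t.truncLT b).obj X)) :=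
    DerivedCategory.isZero_of_isLE _ (b - 1) j (by lia)
  have z2 : IsZero ((homologyFunctor C (j + 1)).obj ((TStructure.t.truncLT b).obj X)) :=
    DerivedCategory.isZero_of_isLE _ (b - 1) (j + 1) (by lia)
  have h1 : Mono ((homologyFunctor C j).map ((TStructure.t.truncGEπ b).app X)) :=
    (DerivedCategory.HomologySequence.mono_homologyMap_mor₂_iff _ hT j).2 (z1.eq_of_src _ _)
  have h2 : Epi ((homologyFunctor C j).map ((TStructure.t.truncGEπ b).app X)) :=
    (DerivedCategory.HomologySequence.epi_homologyMap_mor₂_iff _ hT j (j + 1) rfl).2 (z2.eq_of_tgt _ _)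
  exact isIso_of_mono_of_epi _

instance isGE_truncLT (a : ℤ) [X.IsGE a] : ((TStructure.t.truncLT b).obj X).IsGE a := by
  rw [DerivedCategory.isGE_iff]
  intro i hi
  by_cases h : i < b
  · have := isIso_homology_truncLT X b i h
    exact (X.isZero_of_isGE a i hi).of_iso
      (asIso ((homologyFunctor C i).map ((TStructure.t.truncLTι b).app X)))
  · have i1 : ((TStructure.t.truncLT b).obj X).IsLE (b - 1) := inferInstance
    exact DerivedCategory.isZero_of_isLE _ (b - 1) i (by lia)

instance isLE_truncGE (a : ℤ) [X.IsLE a] : ((TStructure.t.truncGE b).obj X).IsLE a := by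
  rw [DerivedCategory.isLE_iff]
  intro i hi
  by_cases h : b ≤ i
  · have := isIso_homology_truncGE X b i h
    exact (X.isZero_of_isLE a i hi).of_iso
      (asIso ((homologyFunctor C i).map ((TStructure.t.truncGEπ b).app X))).symm
  · have i1 : ((TStructure.t.truncGE b).obj X).IsGE b := inferInstance
    exact DerivedCategory.isZero_of_isGE _ b i (by lia)

end Trunc

/-- Transition maps of a tower. -/
abbrev tr (K : ℕᵒᵖ ⥤ DerivedCategory C) {e d : ℕ} (h : e ≤ d) : K.obj (op d) ⟶ K.obj (op e) :=
  K.map (homOfLE h).op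

theorem tr_comp (K : ℕᵒᵖ ⥤ DerivedCategory C) {e d l : ℕ} (h : e ≤ d) (h' : d ≤ l) :
    tr K h' ≫ tr K h = tr K (h.trans h') := by
  rw [← K.map_comp]
  rfl

/-- **Towers of bounded objects**: it suffices to consider the images on the cohomology objects. -/
theorem pz_of_image (N : DerivedCategory C) (b : ℕ) : ∀ (K : ℕᵒᵖ ⥤ DerivedCategory C)
    (_ : ∀ e : ℕ, (K.obj (op e)).IsGE 0) (_ : ∀ e : ℕ, (K.obj (op e)).IsLE ((b : ℤ) - 1))
    (_ : ∀ (j : ℤ) (e : ℕ), ∃ (d : ℕ) (h : e ≤ d), Good N j (image ((homologyFunctor C j).map (tr K h)))),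
    PZ N K := by
  induction b with
  | zero =>
    intro K h0 h1 _ e
    refine ⟨e, le_refl e, fun x => ?_⟩
    have i0 := h0 e
    have i1 := h1 e
    have hz : IsZero (K.obj (op e)) := by
      refine TStructure.t.isZero _ ((0 : ℕ) - 1 : ℤ) 0 (by simp) 
    exact hz.eq_of_tgt _ _
  | succ b ih =>
    intro K h0 h1 hc
    let t := TStructure.t (C := C)
    let K' : ℕᵒᵖ ⥤ DerivedCategory C := K ⋙ t.truncLT (b : ℤ)
    have hK' : PZ N K' := by
      refine ih K' (fun e => ?_) (fun e => ?_) fun j e => ?_
      · have i0 := h0 e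
        exact isGE_truncLT _ _ _
      · exact inferInstanceAs (((t.truncLT (b : ℤ)).obj (K.obj (op e))).IsLE ((b : ℤ) - 1))
      · by_cases hj : j < b
        · obtain ⟨d, h, hd⟩ := hc j e
          refine ⟨d, h, hd.of_iso ?_⟩
          have j1 := isIso_homology_truncLT (K.obj (op d)) b j hj
          have j2 := isIso_homology_truncLT (K.obj (op e)) b j hj
          refine (imageIsoOf (asIso ((homologyFunctor C j).map ((t.truncLTι b).app (K.obj (op d)))))
            (asIso ((homologyFunctor C j).map ((t.truncLTι b).app (K.obj (op e))))) ?_).symm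
          have h3 := (t.truncLTι (b : ℤ)).naturality (tr K h)
          have h4 := congrArg (homologyFunctor C j).map h3
          rw [Functor.map_comp, Functor.map_comp] at h4
          exact h4
        · refine ⟨e, le_refl e, good_of_isZero _ _ ?_⟩
          have i1 : (K'.obj (op e)).IsLE ((b : ℤ) - 1) :=
            inferInstanceAs (((t.truncLT (b : ℤ)).obj (K.obj (op e))).IsLE ((b : ℤ) - 1))
          have hz : IsZero ((homologyFunctor C j).obj (K'.obj (op e))) :=
            DerivedCategory.isZero_of_isLE _ ((b : ℤ) - 1) j (by lia)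
          exact hz.of_mono (image.ι _)
    intro e
    obtain ⟨e1, he1, hz1⟩ := hK' e
    obtain ⟨d, hd, hg⟩ := hc b e1
    refine ⟨d, he1.trans hd, fun x => ?_⟩
    have i1 : ∀ l, (K.obj (op l)).IsLE (b : ℤ) := fun l => by
      have := h1 l
      exact t.isLE_of_le _ (((b + 1 : ℕ) : ℤ) - 1) (b : ℤ) (by push_cast; lia)
    let X := (t.truncGE (b : ℤ)).obj (K.obj (op d))
    let Y := (t.truncGE (b : ℤ)).obj (K.obj (op e1))
    have a1 : X.IsGE (b : ℤ) := inferInstanceAs (((t.truncGE (b : ℤ)).obj (K.obj (op d))).IsGE b)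
    have a2 : Y.IsGE (b : ℤ) := inferInstanceAs (((t.truncGE (b : ℤ)).obj (K.obj (op e1))).IsGE b)
    have a3 : X.IsLE (b : ℤ) := have := i1 d; isLE_truncGE _ _ _
    have a4 : Y.IsLE (b : ℤ) := have := i1 e1; isLE_truncGE _ _ _
    let f : X ⟶ Y := (t.truncGE (b : ℤ)).map (tr K hd)
    have hnat : tr K hd ≫ (t.truncGEπ (b : ℤ)).app (K.obj (op e1)) =
        (t.truncGEπ (b : ℤ)).app (K.obj (op d)) ≫ f := (t.truncGEπ (b : ℤ)).naturality (tr K hd)
    obtain ⟨p, i, hpi⟩ := exists_factor (b : ℤ) f
    have hg' : Good N b (image ((homologyFunctor C (b : ℤ)).map f)) := by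
      have j1 := isIso_homology_truncGE (K.obj (op d)) b b le_rfl
      have j2 := isIso_homology_truncGE (K.obj (op e1)) b b le_rfl
      refine hg.of_iso (imageIsoOf (asIso ((homologyFunctor C (b : ℤ)).map ((t.truncGEπ b).app (K.obj (op d)))))
        (asIso ((homologyFunctor C (b : ℤ)).map ((t.truncGEπ b).app (K.obj (op e1))))) ?_)
      have h4 := congrArg (homologyFunctor C (b : ℤ)).map hnat
      rw [Functor.map_comp, Functor.map_comp] at h4
      exact h4
    have hx : (x ≫ tr K hd) ≫ (t.truncGEπ (b : ℤ)).app (K.obj (op e1)) = 0 := by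
      rw [Category.assoc, hnat, ← hpi, ← Category.assoc, ← Category.assoc,
        hg' ((x ≫ (t.truncGEπ (b : ℤ)).app (K.obj (op d))) ≫ p), zero_comp]
    obtain ⟨y, hy⟩ := Triangle.coyoneda_exact₂ _ (t.triangleLTGE_distinguished (b : ℤ) (K.obj (op e1)))
      (x ≫ tr K hd) hx
    have hn0 : x ≫ tr K (he1.trans hd) = (x ≫ tr K hd) ≫ tr K he1 := by
      rw [Category.assoc, tr_comp K he1 hd]
    have hn : (t.truncLTι (b : ℤ)).app (K.obj (op e1)) ≫ tr K he1 =
        K'.map (homOfLE he1).op ≫ (t.truncLTι (b : ℤ)).app (K.obj (op e)) :=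
      ((t.truncLTι (b : ℤ)).naturality (tr K he1)).symm
    have hz2 := hz1 y
    refine hn0.trans ((congrArg (· ≫ tr K he1) hy).trans ((Category.assoc _ _ _).trans ?_))
    exact (congrArg (y ≫ ·) hn).trans ((Category.assoc _ _ _).symm.trans
      ((congrArg (· ≫ _) hz2).trans zero_comp))

end K785.ProZero
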